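import Cfsg.Agent.H19.PrimePowerFix.Count
import Cfsg.Agent.H10.PSolvable
import Cfsg.Agent.H16.OddOrder
import Mathlib.GroupTheory.GroupAction.Transitive

/-!
Transitive groups of odd prime power degree in which centralizers of `p`-elements have odd order
and no character has `p`-defect zero: each point is fixed by exactly one involution and the
Sylow `p`-subgroup is normal and regular.
-/

set_option autoImplicit false
set_option linter.unusedSectionVars false

open Cfsg
open scoped Pointwise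

namespace H19.PPFix

universe u v

variable {G : Type u} {Ω : Type v} [Group G] [Fintype G] [MulAction G Ω] [FaithfulSMul G Ω]
  [Fintype Ω] {p : ℕ} [Fact p.Prime]

/-- Centralizers of nontrivial `p`-elements are odd. -/
def OddP (p : ℕ) (G : Type*) [Group G] : Prop :=
  ∀ g : G, g ≠ 1 → (∃ k : ℕ, orderOf g = p ^ k) →
    Odd (Nat.card ↥(Subgroup.centralizer ({g} : Set G)))

/-- No character has `p`-defect zero. -/
def NoDZ (p : ℕ) (G : Type u) [Group G] : Prop :=
  ∀ χ : IrrCharacter G,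
    (charDegree (χ : G → ℂ)).factorization p ≠ (Nat.card G).factorization p

theorem sylow_transitive [MulAction.IsPretransitive G Ω] {r : ℕ} (hΩ : Fintype.card Ω = p ^ r)
    (P : Sylow p G) (a b : Ω) : ∃ u ∈ (P : Subgroup G), u • a = b := by
  classical
  have hp := (Fact.out : p.Prime)
  set A := MulAction.stabilizer G a with hA
  have hidx : A.index = p ^ r := by
    rw [hA, MulAction.index_stabilizer_of_transitive G a, Nat.card_eq_fintype_card, hΩ]
  set PA := MulAction.stabilizer (P : Subgroup G) a with hPA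
  have hdvd : Nat.card PA ∣ Nat.card A := by
    refine Subgroup.card_dvd_of_injective
      ({ toFun := fun u => (⟨((u : (P : Subgroup G)) : G), u.2⟩ : A)
         map_one' := rfl
         map_mul' := fun _ _ => rfl } : PA →* A) ?_
    intro u v huv
    exact Subtype.ext (Subtype.ext (congrArg (fun w : A => (w : G)) huv))
  have hPP : Nat.card PA * (MulAction.orbit (P : Subgroup G) a).ncard = Nat.card (P : Subgroup G) := by
    rw [← MulAction.index_stabilizer]
    exact Subgroup.card_mul_index _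
  obtain ⟨m, hm⟩ := IsPGroup.iff_card.1 (P.isPGroup'.to_subgroup PA)
  have hG : Nat.card A * p ^ r = Nat.card G := by rw [← hidx]; exact Subgroup.card_mul_index A
  have hv : (Nat.card G).factorization p = (Nat.card A).factorization p + r := by
    rw [← hG, Nat.factorization_mul Nat.card_pos.ne' (pow_ne_zero _ hp.ne_zero), Finsupp.add_apply,
      hp.factorization_pow, Finsupp.single_eq_same]
  have hmA : m ≤ (Nat.card A).factorization p := by
    rw [← hp.pow_dvd_iff_le_factorization Nat.card_pos.ne', ← hm]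
    exact hdvd
  have hbig : p ^ r ≤ (MulAction.orbit (P : Subgroup G) a).ncard := by
    by_contra hlt
    rw [not_le] at hlt
    have h1 : Nat.card (P : Subgroup G) < p ^ (m + r) := by
      rw [← hPP, hm, pow_add]
      exact Nat.mul_lt_mul_of_pos_left hlt (pow_pos hp.pos _)
    rw [Sylow.card_eq_multiplicity P, hv] at h1
    have := (Nat.pow_lt_pow_iff_right hp.one_lt).1 h1
    omega
  have huniv : MulAction.orbit (P : Subgroup G) a = Set.univ := by
    refine Set.eq_of_subset_of_ncard_le (Set.subset_univ _) ?_ (Set.toFinite _)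
    rw [Set.ncard_univ, Nat.card_eq_fintype_card, hΩ]
    exact hbig
  obtain ⟨u, hu⟩ : b ∈ MulAction.orbit (P : Subgroup G) a := huniv ▸ Set.mem_univ b
  exact ⟨u, u.2, hu⟩

theorem eq_one_of_comm_of_fix {Q : Subgroup G} (hcomm : ∀ a ∈ Q, ∀ b ∈ Q, a * b = b * a)
    {a : Ω} (htr : ∀ b : Ω, ∃ u ∈ Q, u • a = b) {u : G}
    (hu : ∀ v ∈ Q, u * v = v * u) (hfix : u • a = a) : u = 1 := by
  refine FaithfulSMul.eq_of_smul_eq_smul (α := Ω) fun b => ?_
  obtain ⟨v, hv, rfl⟩ := htr b
  rw [one_smul, ← mul_smul, hu v hv, mul_smul, hfix]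

theorem p_elt_ne {hp2 : p ≠ 2} {u : G} (hu : ∃ k : ℕ, orderOf u = p ^ k) (h2 : u * u = 1) :
    u = 1 := by
  obtain ⟨k, hk⟩ := hu
  rw [← orderOf_eq_one_iff]
  have h1 : orderOf u ∣ 2 := orderOf_dvd_of_pow_eq_one (by rw [sq, h2])
  have h3 : Nat.Coprime (orderOf u) 2 := by
    rw [hk]
    exact ((Nat.coprime_primes (Fact.out : p.Prime) Nat.prime_two).2 hp2).pow_left k
  exact Nat.eq_one_of_dvd_coprimes h3 dvd_rfl h1

theorem sylow_elt (P : Sylow p G) {u : G} (hu : u ∈ (P : Subgroup G)) :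
    ∃ k : ℕ, orderOf u = p ^ k := by
  obtain ⟨k, hk⟩ := IsPGroup.iff_orderOf.1 P.isPGroup' ⟨u, hu⟩
  exact ⟨k, by rwa [Subgroup.orderOf_mk] at hk⟩

section Main

variable [MulAction.IsPretransitive G Ω] {r : ℕ}

/-- An involution fixes exactly one point. -/
theorem existsUnique_fixed (hp2 : p ≠ 2) (hΩ : Fintype.card Ω = p ^ r) (hpG : p ∣ Nat.card G)
    (hC : OddP p G) (hnd : NoDZ p G) {t : G} (ht : orderOf t = 2) :
    ∃! a : Ω, t • a = a := by
  obtain ⟨P⟩ := (inferInstance : Nonempty (Sylow p G))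
  obtain ⟨⟨s, hts, hs⟩, hcomm, -⟩ := H24.exists_inverting_involution hpG hC hnd t ht P
  have hs2 := H65.two_of_isConj ht hts
  have hodd : ¬ 2 ∣ Nat.card Ω := by
    rw [Nat.card_eq_fintype_card, hΩ]
    intro h
    exact hp2 (((Nat.prime_dvd_prime_iff_eq Nat.prime_two Fact.out).1
      (Nat.prime_two.dvd_of_dvd_pow h)).symm)
  obtain ⟨a, ha⟩ := H24.exists_fixed_of_involutive (fun x : Ω => s • x)
    (fun x => by show s • s • x = x; rw [← mul_smul, H65.mul_self_of_two hs2, one_smul]) hodd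
  have huniq : ∀ b : Ω, s • b = b → b = a := by
    intro b hb
    obtain ⟨u, hu, rfl⟩ := sylow_transitive hΩ P a b
    have hsu : s * u = u⁻¹ * s := by rw [← hs u hu, inv_mul_cancel_right]
    rw [← mul_smul, hsu, mul_smul, ha, inv_smul_eq_iff, ← mul_smul] at hb
    have h2 : u * u = 1 := eq_one_of_comm_of_fix hcomm (fun b => sylow_transitive hΩ P a b)
      (fun v hv => hcomm _ (mul_mem hu hu) v hv) hb.symm
    rw [p_elt_ne (hp2 := hp2) (sylow_elt P hu) h2, one_smul]
  obtain ⟨c, rfl⟩ := isConj_iff.1 hts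
  refine ⟨c⁻¹ • a, ?_, fun b hb => ?_⟩
  · show t • c⁻¹ • a = c⁻¹ • a
    rw [eq_inv_smul_iff, ← mul_smul, ← mul_smul]
    exact ha
  · rw [eq_inv_smul_iff]
    refine huniq _ ?_
    rw [← mul_smul, inv_mul_cancel_right, mul_smul, hb]

/-- In a subgroup of even order normalized by an involution, some involution commutes with it. -/
theorem exists_commuting_involution (C : Subgroup G) {t : G} (ht : orderOf t = 2)
    (hnorm : ∀ x ∈ C, t * x * t⁻¹ ∈ C) (heven : 2 ∣ Nat.card C) :
    ∃ z ∈ C, orderOf z = 2 ∧ t * z = z * t := by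
  haveI : Fact (Nat.Prime 2) := ⟨Nat.prime_two⟩
  have htt : ∀ w : G, t * (t * w * t⁻¹) * t⁻¹ = w := by
    intro w
    calc t * (t * w * t⁻¹) * t⁻¹ = (t * t) * w * (t * t)⁻¹ := by group
      _ = w := by rw [H65.mul_self_of_two ht]; group
  let φ : MulAut C :=
    { toFun := fun x => ⟨t * x * t⁻¹, hnorm _ x.2⟩
      invFun := fun x => ⟨t * x * t⁻¹, hnorm _ x.2⟩
      left_inv := fun x => Subtype.ext (htt x)
      right_inv := fun x => Subtype.ext (htt x)
      map_mul' := fun x y => by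
        apply Subtype.ext
        show t * (x * y : G) * t⁻¹ = t * x * t⁻¹ * (t * y * t⁻¹)
        group }
  have hmem : ∀ (T : Sylow 2 C) (y : C), y ∈ φ • T ↔ φ y ∈ T := fun T y => by
    show y ∈ (φ • (T : Subgroup C)) ↔ _
    rw [Subgroup.mem_pointwise_smul_iff_inv_smul_mem]
    rfl
  have hodd : ¬ 2 ∣ Nat.card (Sylow 2 C) := fun h => by
    have h1 := card_sylow_modEq_one 2 C
    rw [Nat.ModEq, Nat.mod_eq_zero_of_dvd h] at h1 <;> simp_all [Nat.dvd_iff_mod_eq_zero]
  obtain ⟨T, hT⟩ := H24.exists_fixed_of_involutive (fun T : Sylow 2 C => φ • T) (by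
    intro T
    ext y
    show y ∈ φ • φ • T ↔ y ∈ T
    rw [hmem, hmem]
    have : φ (φ y) = y := φ.left_inv y
    rw [this]) hodd
  have hφT : ∀ y ∈ T, φ y ∈ T := fun y hy => (hmem T y).1 (hT.symm ▸ hy)
  have hTne : 2 ∣ Nat.card (T : Subgroup C) := T.dvd_card_of_dvd_card heven
  let Z := {y : T // (y : C) ≠ 1}
  have hZ : ¬ 2 ∣ Nat.card Z := by
    classical
    have e : Nat.card Z + 1 = Nat.card (T : Subgroup C) := by
      rw [show Nat.card Z = ({1} : Set (T : Subgroup C))ᶜ.ncard from Nat.card_congr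
        (Equiv.subtypeEquivRight fun y => not_congr OneMemClass.coe_eq_one)]
      have h := Set.ncard_add_ncard_compl ({1} : Set (T : Subgroup C))
      rw [Set.ncard_singleton] at h
      omega
    omega
  obtain ⟨⟨⟨y, hy⟩, hy1⟩, hfy⟩ := H24.exists_fixed_of_involutive
    (fun y : Z => (⟨⟨φ (y.1 : C), hφT _ y.1.2⟩, fun h => y.2 (by
      have h' : φ (y.1 : C) = 1 := h
      simpa using h')⟩ : Z))
    (fun y => Subtype.ext (Subtype.ext (φ.left_inv _))) hZ
  have hfy' : φ y = y := congrArg (fun w : Z => ((w.1 : C))) hfy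
  obtain ⟨k, hk⟩ := IsPGroup.iff_orderOf.1 T.isPGroup' ⟨y, hy⟩
  rw [Subgroup.orderOf_mk] at hk
  have hk0 : k ≠ 0 := fun h => hy1 (orderOf_eq_one_iff.1 (by rw [hk, h, pow_zero]))
  refine ⟨((y ^ 2 ^ (k - 1) : C) : G), (y ^ 2 ^ (k - 1)).2, ?_, ?_⟩
  · rw [Subgroup.orderOf_coe, orderOf_pow_of_dvd (pow_ne_zero _ two_ne_zero)
      (hk ▸ pow_dvd_pow 2 (by omega)), hk, Nat.pow_div (by omega) two_pos,
      show k - (k - 1) = 1 by omega, pow_one]
  · have h1 : φ (y ^ 2 ^ (k - 1)) = y ^ 2 ^ (k - 1) := by rw [map_pow, hfy']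
    exact mul_inv_eq_iff_eq_mul.1 (congrArg Subtype.val h1)

/-- A `p`-element of a Sylow-normal centralizer: the centralizer has a normal Sylow subgroup. -/
theorem sylow_of_centralizer (hp2 : p ≠ 2) (hΩ : Fintype.card Ω = p ^ r) (hpG : p ∣ Nat.card G)
    (hC : OddP p G) (hnd : NoDZ p G) {t₀ : G} (ht₀ : orderOf t₀ = 2) {y : G} (hy1 : y ≠ 1)
    (hyp : ∃ k : ℕ, orderOf y = p ^ k) :
    ∃ P : Sylow p G, (P : Subgroup G) ≤ Subgroup.centralizer ({y} : Set G) ∧
      ∀ w ∈ Subgroup.centralizer ({y} : Set G), (∃ k : ℕ, orderOf w = p ^ k) →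
        w ∈ (P : Subgroup G) := by
  classical
  have hp := (Fact.out : p.Prime)
  obtain ⟨k, hk⟩ := hyp
  have hyP : IsPGroup p (Subgroup.zpowers y) := IsPGroup.of_card (by rw [Nat.card_zpowers, hk])
  obtain ⟨P, hP⟩ := hyP.exists_le_sylow
  obtain ⟨-, hcomm, -⟩ := H24.exists_inverting_involution hpG hC hnd t₀ ht₀ P
  set K := Subgroup.centralizer ({y} : Set G) with hK
  have hPK : (P : Subgroup G) ≤ K := fun u hu => by
    rw [hK, Subgroup.mem_centralizer_singleton_iff]
    exact hcomm u hu y (hP (Subgroup.mem_zpowers y))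
  refine ⟨P, hPK, ?_⟩
  have hKodd := hC y hy1 ⟨k, hk⟩
  haveI : Group.IsSolvable K := H16.FT.oddOrder hKodd
  haveI htrK : MulAction.IsPretransitive K Ω := ⟨fun a b => by
    obtain ⟨u, hu, h⟩ := sylow_transitive hΩ P a b
    exact ⟨⟨u, hPK hu⟩, h⟩⟩
  haveI : FaithfulSMul K Ω := ⟨fun h => Subtype.ext (FaithfulSMul.eq_of_smul_eq_smul (α := Ω) h)⟩
  have hN : pPrimeCore p K = ⊥ := by
    haveI := H10.pPrimeCore_normal (p := p) (G := K)
    rw [eq_bot_iff]
    intro g hg
    rw [Subgroup.mem_bot]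
    refine FaithfulSMul.eq_of_smul_eq_smul (α := Ω) fun a => ?_
    rw [one_smul]
    set N := pPrimeCore p K
    have hblock : MulAction.IsBlock K (MulAction.orbit N a) := MulAction.IsBlock.orbit_of_normal a
    have h2 : (MulAction.orbit N a).ncard ∣ p ^ r := by
      rw [← hΩ, ← Nat.card_eq_fintype_card]
      exact hblock.ncard_dvd_card (MulAction.nonempty_orbit a)
    have h1 : (MulAction.orbit N a).ncard ∣ Nat.card N := by
      rw [← MulAction.index_stabilizer]
      exact Subgroup.index_dvd_card _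
    have h4 : (MulAction.orbit N a).ncard = 1 :=
      Nat.eq_one_of_dvd_coprimes (H10.pPrimeCore_coprime.pow_right r) h1 h2
    obtain ⟨x, hx⟩ := Set.ncard_eq_one.1 h4
    have ha' : a ∈ MulAction.orbit N a := MulAction.mem_orbit_self a
    have hga : (⟨g, hg⟩ : N) • a ∈ MulAction.orbit N a := MulAction.mem_orbit a _
    rw [hx, Set.mem_singleton_iff] at ha' hga
    exact hga.trans ha'.symm
  set O := pCore p K with hO
  have hcent := H10.centralizer_pCore_le (H10.isPSolvable_of_isSolvable (p := p) (G := K)) hN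
  let P' : Sylow p K := P.subtype hPK
  have hOP : O ≤ (P' : Subgroup K) := by
    haveI : O.Normal := H10.pCore_normal
    exact (H10.pCore_isPGroup (G := K) (p := p)).le_sylow_of_normal P'
  have hPO : (P' : Subgroup K) ≤ O := fun u hu => hcent (Subgroup.mem_centralizer_iff.2 fun o ho =>
    Subtype.ext (hcomm _ (hOP ho) _ hu))
  haveI : (P' : Subgroup K).Normal := le_antisymm hPO hOP ▸ H10.pCore_normal
  intro w hw ⟨j, hj⟩
  have hwp : IsPGroup p (Subgroup.zpowers (⟨w, hw⟩ : K)) :=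
    IsPGroup.of_card (by rw [Nat.card_zpowers, Subgroup.orderOf_mk, hj])
  obtain ⟨Q, hQ⟩ := hwp.exists_le_sylow
  haveI := Sylow.unique_of_normal P' inferInstance
  have hQe : Q = P' := Subsingleton.elim _ _
  have : (⟨w, hw⟩ : K) ∈ (P' : Subgroup K) := hQe ▸ hQ (Subgroup.mem_zpowers _)
  exact this

/-- An involution inverting a `p`-element inverts the normal Sylow subgroup of its centralizer. -/
theorem inverts_sylow (hC : OddP p G) {y : G} (P : Sylow p G)
    (hPK : (P : Subgroup G) ≤ Subgroup.centralizer ({y} : Set G))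
    (hmax : ∀ w ∈ Subgroup.centralizer ({y} : Set G), (∃ k : ℕ, orderOf w = p ^ k) →
      w ∈ (P : Subgroup G))
    (hcomm : ∀ a ∈ (P : Subgroup G), ∀ b ∈ (P : Subgroup G), a * b = b * a)
    {t : G} (ht : orderOf t = 2) (hty : t * y * t⁻¹ = y⁻¹) :
    ∀ u ∈ (P : Subgroup G), t * u * t⁻¹ = u⁻¹ := by
  intro u hu
  have hu' : t * u * t⁻¹ ∈ (P : Subgroup G) := by
    refine hmax _ ?_ ?_
    · have h1 : Commute u y := Subgroup.mem_centralizer_singleton_iff.1 (hPK hu)
      rw [Subgroup.mem_centralizer_singleton_iff]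
      have h2 : Commute (t * u * t⁻¹) (t * y * t⁻¹) := by
        show t * u * t⁻¹ * (t * y * t⁻¹) = t * y * t⁻¹ * (t * u * t⁻¹)
        rw [show t * u * t⁻¹ * (t * y * t⁻¹) = t * (u * y) * t⁻¹ by group, h1.eq]
        group
      rw [hty] at h2
      simpa using h2.inv_right.eq
    · obtain ⟨k, hk⟩ := sylow_elt P hu
      exact ⟨k, by rw [← MulAut.conj_apply, MulEquiv.orderOf_eq, hk]⟩
  set c := u * (t * u * t⁻¹) with hc
  have hcP : c ∈ (P : Subgroup G) := mul_mem hu hu'
  have htc : t * c = c * t := by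
    refine mul_inv_eq_iff_eq_mul.1 ?_
    calc t * c * t⁻¹ = (t * u * t⁻¹) * ((t * t) * u * (t * t)⁻¹) := by rw [hc]; group
      _ = (t * u * t⁻¹) * u := by rw [H65.mul_self_of_two ht]; group
      _ = c := (hcomm u hu _ hu').symm
  by_contra hne
  have hc1 : c ≠ 1 := fun h => hne (eq_inv_of_mul_eq_one_right h)
  have hto : orderOf t ∣ Nat.card (Subgroup.centralizer ({c} : Set G)) :=
    Subgroup.orderOf_dvd_natCard _ (Subgroup.mem_centralizer_singleton_iff.2 htc)
  rw [ht] at hto
  exact Nat.not_even_iff_odd.2 (hC c hc1 (sylow_elt P hcP)) (even_iff_two_dvd.2 hto)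

/-- Two involutions swapping a pair of points have the same fixed point. -/
theorem same_fixed (hp2 : p ≠ 2) (hΩ : Fintype.card Ω = p ^ r) (hpG : p ∣ Nat.card G)
    (hC : OddP p G) (hnd : NoDZ p G) {t t' : G} (ht : orderOf t = 2) (ht' : orderOf t' = 2)
    {a b c c' : Ω} (htab : t • a = b) (ht'ab : t' • a = b) (htc : t • c = c) (ht'c : t' • c' = c') :
    c = c' := by
  by_contra hcc
  set x := t * t' with hx
  have hinvt : t * x * t⁻¹ = x⁻¹ := H65.conj_prod ht ht'
  have hnorm : ∀ g ∈ Subgroup.centralizer ({x} : Set G),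
      t * g * t⁻¹ ∈ Subgroup.centralizer ({x} : Set G) := by
    intro g hg
    rw [Subgroup.mem_centralizer_singleton_iff] at hg ⊢
    have h2 : Commute (t * g * t⁻¹) (t * x * t⁻¹) := by
      show t * g * t⁻¹ * (t * x * t⁻¹) = t * x * t⁻¹ * (t * g * t⁻¹)
      rw [show t * g * t⁻¹ * (t * x * t⁻¹) = t * (g * x) * t⁻¹ by group, hg]
      group
    rw [hinvt] at h2
    simpa using h2.inv_right.eq
  have hfix : ∀ {s : G} {a b : Ω}, orderOf s = 2 → s • a = a → s • b = b → a = b :=
    fun hs h1 h2 => (existsUnique_fixed hp2 hΩ hpG hC hnd hs).unique h1 h2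
  have hodd : Odd (Nat.card (Subgroup.centralizer ({x} : Set G))) := by
    rw [← Nat.not_even_iff_odd]
    intro he
    obtain ⟨z, hz, hz2, htz⟩ := exists_commuting_involution _ ht hnorm (even_iff_two_dvd.1 he)
    have hzx : z * x = x * z := Subgroup.mem_centralizer_singleton_iff.1 hz
    have ht'z : t' * z = z * t' := by
      have e : t' = t * x := by rw [hx, H65.mul_mul_self ht]
      rw [e, mul_assoc, ← hzx, ← mul_assoc, htz, mul_assoc]
    obtain ⟨d, hd, -⟩ := existsUnique_fixed hp2 hΩ hpG hC hnd hz2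
    have h1 : t • d = d := hfix hz2 (by rw [← mul_smul, ← htz, mul_smul, hd]) hd
    have h2 : t' • d = d := hfix hz2 (by rw [← mul_smul, ← ht'z, mul_smul, hd]) hd
    exact hcc ((hfix ht htc h1).trans (hfix ht' ht'c h2).symm)
  have htt' : IsConj t t' :=
    H65.isConj_of_odd ht ht' (hodd.of_dvd_nat (Subgroup.orderOf_dvd_natCard _
      (Subgroup.mem_centralizer_singleton_iff.2 rfl)))
  have hct : ¬ p ∣ Nat.card (Subgroup.centralizer ({t} : Set G)) :=
    H24.not_dvd_centralizer_involution hC ht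
  have hpx := dvd_centralizer hpG ht htt' hct hodd hnd
  obtain ⟨D, hD, -⟩ := H24.exists_inverted_sylow (p := p) (Subgroup.centralizer ({x} : Set G)) t
    (H65.mul_self_of_two ht) hnorm hodd hct
  haveI : Nontrivial (D : Subgroup (Subgroup.centralizer ({x} : Set G))) := by
    rw [Subgroup.nontrivial_iff_ne_bot]
    exact fun h => by
      have h2 := D.dvd_card_of_dvd_card hpx
      rw [h, Subgroup.card_bot] at h2
      exact (Fact.out : p.Prime).ne_one (Nat.dvd_one.1 h2)
  obtain ⟨⟨⟨y, hyC⟩, hyD⟩, hy1⟩ := exists_ne (1 : (D : Subgroup (Subgroup.centralizer ({x} : Set G))))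
  have hy1' : y ≠ 1 := fun h => hy1 (Subtype.ext (Subtype.ext h))
  have hty : t * y * t⁻¹ = y⁻¹ := hD ⟨y, hyC⟩ hyD
  obtain ⟨k, hk⟩ := IsPGroup.iff_orderOf.1 D.isPGroup' ⟨⟨y, hyC⟩, hyD⟩
  rw [Subgroup.orderOf_mk, Subgroup.orderOf_mk] at hk
  obtain ⟨P, hPK, hmax⟩ := sylow_of_centralizer hp2 hΩ hpG hC hnd ht hy1' ⟨k, hk⟩
  obtain ⟨-, hcomm, -⟩ := H24.exists_inverting_involution hpG hC hnd t ht P
  have hxy : Commute y x := Subgroup.mem_centralizer_singleton_iff.1 hyC
  have ht'y : t' * y * t'⁻¹ = y⁻¹ := by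
    rw [show t' = t * x by rw [hx, H65.mul_mul_self ht]]
    rw [show t * x * y * (t * x)⁻¹ = t * (x * y * x⁻¹) * t⁻¹ by group, ← hxy.eq,
      mul_inv_cancel_right, hty]
  have i1 := inverts_sylow hC P hPK hmax hcomm ht hty
  have i2 := inverts_sylow hC P hPK hmax hcomm ht' ht'y
  have hxP : ∀ v ∈ (P : Subgroup G), x * v = v * x := by
    intro v hv
    have h : x * v * x⁻¹ = v := by
      rw [hx, show t * t' * v * (t * t')⁻¹ = t * (t' * v * t'⁻¹) * t⁻¹ by group, i2 v hv,
        i1 _ (inv_mem hv), inv_inv]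
    exact mul_inv_eq_iff_eq_mul.1 h
  have hxa : x • a = a := by
    rw [hx, mul_smul, ht'ab, ← htab, ← mul_smul, H65.mul_self_of_two ht, one_smul]
  have hx1 : x = 1 := eq_one_of_comm_of_fix hcomm (fun b => sylow_transitive hΩ P a b) hxP hxa
  have : t = t' := by
    rw [hx] at hx1
    rw [← H65.inv_of_two ht', eq_inv_iff_mul_eq_one, hx1]
  subst this
  exact hcc (hfix ht htc ht'c)

/-- Exactly one involution fixes a given point. -/
theorem involution_unique (hp2 : p ≠ 2) (hΩ : Fintype.card Ω = p ^ r) (hpG : p ∣ Nat.card G)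
    (hC : OddP p G) (hnd : NoDZ p G) {t t' : G} (ht : orderOf t = 2) (ht' : orderOf t' = 2)
    {c : Ω} (htc : t • c = c) (ht'c : t' • c = c) : t = t' := by
  classical
  set I : Finset G := Finset.univ.filter fun g => orderOf g = 2 with hI
  let T : Ω → Finset G := fun d => I.filter fun g => g • d = d
  have hfix : ∀ {s : G} {a b : Ω}, orderOf s = 2 → s • a = a → s • b = b → a = b :=
    fun hs h1 h2 => (existsUnique_fixed hp2 hΩ hpG hC hnd hs).unique h1 h2
  have hTcard : ∀ d, (T d).card = (T c).card := by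
    intro d
    obtain ⟨g, rfl⟩ := MulAction.exists_smul_eq G c d
    refine Finset.card_nbij' (fun s => g⁻¹ * s * g) (fun s => g * s * g⁻¹) ?_ ?_ ?_ ?_
    · intro s hs
      simp only [T, I, Finset.coe_filter, Finset.mem_filter, Finset.mem_univ, true_and,
        Set.mem_setOf_eq] at hs ⊢
      refine ⟨by simpa using H65.two_conj hs.1 g⁻¹, ?_⟩
      rw [mul_smul, mul_smul, inv_smul_eq_iff]
      exact hs.2
    · intro s hs
      simp only [T, I, Finset.coe_filter, Finset.mem_filter, Finset.mem_univ, true_and,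
        Set.mem_setOf_eq] at hs ⊢
      refine ⟨H65.two_conj hs.1 g, ?_⟩
      rw [mul_smul, mul_smul, inv_smul_smul, hs.2]
    · intro s _; simp [mul_assoc]
    · intro s _; simp [mul_assoc]
  refine FaithfulSMul.eq_of_smul_eq_smul (α := Ω) fun a => ?_
  rcases eq_or_ne a c with rfl | hac
  · rw [htc, ht'c]
  -- all involutions
  have hIcard : I.card = Fintype.card Ω * (T c).card := by
    have h1 : I = Finset.univ.biUnion T := by
      ext g
      simp only [T, Finset.mem_biUnion, Finset.mem_univ, true_and, Finset.mem_filter]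
      refine ⟨fun hg => ?_, fun ⟨_, hg, _⟩ => hg⟩
      obtain ⟨d, hd, -⟩ := existsUnique_fixed hp2 hΩ hpG hC hnd (Finset.mem_filter.1 hg).2
      exact ⟨d, hg, hd⟩
    rw [h1, Finset.card_biUnion, Finset.sum_congr rfl fun d _ => hTcard d, Finset.sum_const,
      Finset.card_univ, smul_eq_mul]
    intro d _ e _ hde
    rw [Function.onFun, Finset.disjoint_left]
    intro g hg hg'
    simp only [T, I, Finset.mem_filter, Finset.mem_univ, true_and] at hg hg'
    exact hde (hfix hg.1 hg.2 hg'.2)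
  let F : Ω → Finset G := fun b => I.filter fun g => g • a = b
  have hsub : ∀ b, ∀ g ∈ F b, ∀ d, g • d = d → F b ⊆ T d := by
    intro b g hg d hd s hs
    simp only [F, T, I, Finset.mem_filter, Finset.mem_univ, true_and] at hg hs ⊢
    obtain ⟨e, he, -⟩ := existsUnique_fixed hp2 hΩ hpG hC hnd hs.1
    rw [same_fixed hp2 hΩ hpG hC hnd hg.1 hs.1 hg.2 hs.2 hd he]
    exact ⟨hs.1, he⟩
  have hle : ∀ b, (F b).card ≤ (T c).card := by
    intro b
    rcases (F b).eq_empty_or_nonempty with h | ⟨g, hg⟩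
    · simp [h]
    obtain ⟨d, hd, -⟩ := existsUnique_fixed hp2 hΩ hpG hC hnd
      (Finset.mem_filter.1 (Finset.mem_filter.1 hg).1).2
    exact (Finset.card_le_card (hsub b g hg d hd)).trans_eq (hTcard d)
  have hsum : ∑ b : Ω, (F b).card = ∑ _b : Ω, (T c).card := by
    rw [Finset.sum_const, Finset.card_univ, smul_eq_mul, ← hIcard]
    exact (Finset.card_eq_sum_card_fiberwise fun g _ => Finset.mem_univ (g • a)).symm
  have heq : ∀ b, (F b).card = (T c).card := fun b =>
    (Finset.sum_eq_sum_iff_of_le fun b _ => hle b).1 hsum b (Finset.mem_univ b)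
  have htF : t ∈ F (t • a) := by simp [F, I, ht]
  have hTF : F (t • a) = T c :=
    Finset.eq_of_subset_of_card_le (hsub _ t htF c htc) (heq _).ge
  have : t' ∈ F (t • a) := by rw [hTF]; simp [T, I, ht', ht'c]
  exact ((Finset.mem_filter.1 this).2).symm

/-- The Sylow `p`-subgroup is normal and every involution inverts it. -/
theorem normal_inverted (hp2 : p ≠ 2) (hΩ : Fintype.card Ω = p ^ r) (hpG : p ∣ Nat.card G)
    (hC : OddP p G) (hnd : NoDZ p G) {t : G} (ht : orderOf t = 2) :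
    ∃ P : Sylow p G, (P : Subgroup G).Normal ∧
      (∀ a ∈ (P : Subgroup G), ∀ b ∈ (P : Subgroup G), a * b = b * a) ∧
      ∀ s : G, orderOf s = 2 → ∀ u ∈ (P : Subgroup G), s * u * s⁻¹ = u⁻¹ := by
  classical
  obtain ⟨P⟩ := (inferInstance : Nonempty (Sylow p G))
  obtain ⟨⟨z, htz, hz⟩, hcomm, -⟩ := H24.exists_inverting_involution hpG hC hnd t ht P
  have hz2 := H65.two_of_isConj ht htz
  have hzu : ∀ u ∈ (P : Subgroup G), orderOf (z * u) = 2 := by
    intro u hu
    rw [H65.two_iff]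
    refine ⟨?_, fun h => ?_⟩
    · calc z * u * (z * u) = z * u * z⁻¹ * u := by rw [H65.inv_of_two hz2]; simp only [mul_assoc]
        _ = 1 := by rw [hz u hu, inv_mul_cancel]
    · have e : u = z := by rw [eq_inv_of_mul_eq_one_right h, H65.inv_of_two hz2]
      exact H65.ne_one_of_two hz2 (p_elt_ne (hp2 := hp2) (e ▸ sylow_elt P hu) (H65.mul_self_of_two hz2))
  obtain ⟨a, ha, -⟩ := existsUnique_fixed hp2 hΩ hpG hC hnd hz2
  have hall : ∀ s : G, orderOf s = 2 → ∃ u ∈ (P : Subgroup G), s = z * u := by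
    intro s hs
    obtain ⟨c, hc, -⟩ := existsUnique_fixed hp2 hΩ hpG hC hnd hs
    have hinj : Function.Injective fun u : (P : Subgroup G) =>
        (existsUnique_fixed (Ω := Ω) hp2 hΩ hpG hC hnd (hzu u u.2)).choose := by
      intro u v huv
      have hu := (existsUnique_fixed (Ω := Ω) hp2 hΩ hpG hC hnd (hzu u u.2)).choose_spec.1
      have hv := (existsUnique_fixed (Ω := Ω) hp2 hΩ hpG hC hnd (hzu v v.2)).choose_spec.1
      simp only at huv
      rw [← huv] at hv
      exact Subtype.ext (mul_left_cancel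
        (involution_unique hp2 hΩ hpG hC hnd (hzu u u.2) (hzu v v.2) hu hv))
    have hcard : Nat.card Ω ≤ Nat.card (P : Subgroup G) := by
      refine Nat.card_le_card_of_surjective (fun u : (P : Subgroup G) => (u : G) • a) fun b => ?_
      obtain ⟨u, hu, h⟩ := sylow_transitive hΩ P a b
      exact ⟨⟨u, hu⟩, h⟩
    obtain ⟨u, hu⟩ := (Function.Injective.bijective_of_nat_card_le hinj hcard).2 c
    have hu' := (existsUnique_fixed (Ω := Ω) hp2 hΩ hpG hC hnd (hzu u u.2)).choose_spec.1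
    simp only at hu
    rw [hu] at hu'
    exact ⟨u, u.2, involution_unique hp2 hΩ hpG hC hnd hs (hzu u u.2) hc hu'⟩
  refine ⟨P, ⟨fun w hw g => ?_⟩, hcomm, fun s hs v hv => ?_⟩
  · obtain ⟨u₁, hu₁, e₁⟩ := hall _ (H65.two_conj hz2 g)
    obtain ⟨u₂, hu₂, e₂⟩ := hall _ (H65.two_conj (hzu w hw) g)
    have h : g * w * g⁻¹ = (g * z * g⁻¹) * (g * (z * w) * g⁻¹) := by
      calc g * w * g⁻¹ = g * (z * z) * w * g⁻¹ := by rw [H65.mul_self_of_two hz2, mul_one]
        _ = _ := by group
    rw [h, e₁, e₂, ← H65.inv_of_two (hzu u₁ hu₁), mul_inv_rev, mul_assoc, ← mul_assoc z⁻¹,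
      inv_mul_cancel, one_mul]
    exact mul_mem (inv_mem hu₁) hu₂
  · obtain ⟨u, hu, rfl⟩ := hall s hs
    rw [show z * u * v * (z * u)⁻¹ = z * (u * v * u⁻¹) * z⁻¹ by group, hcomm u hu v hv,
      mul_inv_cancel_right, hz v hv]

end Main

end H19.PPFix
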