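import Cfsg.Agent.H24.RealPElement

/-!
Without a character of `p`-defect zero, the number of ways of writing an element as a product of two
conjugates of an involution with `p'`-centralizer is divisible by `p`.
-/

set_option autoImplicit false
set_option linter.unusedSectionVars false

open Cfsg
open scoped ComplexConjugate

namespace H19.PPFix

universe u

variable {G : Type u} [Group G] [Fintype G] {p : ℕ} [Fact p.Prime]

theorem dvd_classMult (hpG : p ∣ Nat.card G) (t x : G)
    (hct : ¬ p ∣ Nat.card (Subgroup.centralizer ({t} : Set G)))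
    (hnd : ∀ χ : IrrCharacter G,
      (charDegree (χ : G → ℂ)).factorization p ≠ (Nat.card G).factorization p) :
    p ∣ H24.classMult t t x := by
  classical
  have hp := (Fact.out : p.Prime)
  rcases eq_or_ne (H24.classMult t t x) 0 with hN | hN
  · rw [hN]; exact dvd_zero p
  set a := (Nat.card G).factorization p with ha
  have ha1 : 0 < a := hp.factorization_pos_of_dvd Nat.card_pos.ne' hpG
  set i := (Subgroup.centralizer ({t} : Set G)).index with hi
  have hi0 : i ≠ 0 := Subgroup.index_ne_zero_of_finite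
  have hiv : i.factorization p = a := by
    have h1 : (Nat.card (Subgroup.centralizer ({t} : Set G)) * i).factorization p = a := by
      rw [hi, Subgroup.card_mul_index]
    rw [Nat.factorization_mul Nat.card_pos.ne' hi0, Finsupp.add_apply,
      Nat.factorization_eq_zero_of_not_dvd hct, zero_add] at h1
    exact h1
  set L := p ^ (a - 1) * (Nat.card G / p ^ a) with hL
  have hr0 : Nat.card G / p ^ a ≠ 0 := (Nat.ordCompl_pos p Nat.card_pos.ne').ne'
  have hL0 : L ≠ 0 := mul_ne_zero (pow_ne_zero _ hp.ne_zero) hr0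
  have hfL : L.factorization p = a - 1 := by
    rw [hL, Nat.factorization_mul (pow_ne_zero _ hp.ne_zero) hr0, hp.factorization_pow,
      Finsupp.add_apply, Finsupp.single_eq_same,
      Nat.factorization_eq_zero_of_not_dvd (Nat.not_dvd_ordCompl hp Nat.card_pos.ne'), add_zero]
  have hdvd : ∀ χ : IrrCharacter G, charDegree (χ : G → ℂ) ∣ L := by
    intro χ
    rw [← Nat.ordProj_mul_ordCompl_eq_self (charDegree (χ : G → ℂ)) p, hL]
    refine Nat.mul_dvd_mul (pow_dvd_pow p ?_)
      (Nat.ordCompl_dvd_ordCompl_of_dvd (H24.charDegree_dvd_card χ) p)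
    have h1 : (charDegree (χ : G → ℂ)).factorization p ≤ a :=
      (Nat.factorization_le_iff_dvd (H24.irr_pos χ).ne' Nat.card_pos.ne').2
        (H24.charDegree_dvd_card χ) p
    have h2 := hnd χ
    omega
  have hkey : ((H24.classMult t t x * Nat.card G * L : ℕ) : ℂ) = ((i * i : ℕ) : ℂ) *
      ∑ χ : IrrCharacter G, (χ : G → ℂ) t * (χ : G → ℂ) t * conj ((χ : G → ℂ) x) *
        ((L / charDegree (χ : G → ℂ) : ℕ) : ℂ) := by
    push_cast
    rw [H24.classMult_eq, ← hi, mul_assoc, Finset.sum_mul]
    refine congrArg _ (Finset.sum_congr rfl fun χ _ => ?_)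
    rw [H24.irr_one, Nat.cast_div (hdvd χ) (Nat.cast_ne_zero.2 (H24.irr_pos χ).ne')]
    ring
  have hdv := H24.nat_dvd_of_eq_mul (IsIntegral.sum _ fun χ _ =>
    (((H12.IsCharacter.isIntegral (H12.isCharacter_irr χ) t).mul
      (H12.IsCharacter.isIntegral (H12.isCharacter_irr χ) t)).mul
      ((H12.IsCharacter.isIntegral (H12.isCharacter_irr χ) x).map (starRingEnd ℂ).toIntAlgHom)).mul
      (H24.natCast_isIntegral _)) hkey
  have h4 := (Nat.factorization_le_iff_dvd (mul_ne_zero hi0 hi0)
    (mul_ne_zero (mul_ne_zero hN Nat.card_pos.ne') hL0)).2 hdv p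
  rw [Nat.factorization_mul (mul_ne_zero hN Nat.card_pos.ne') hL0,
    Nat.factorization_mul hN Nat.card_pos.ne', Nat.factorization_mul hi0 hi0] at h4
  simp only [Finsupp.add_apply, hiv, hfL, ← ha] at h4
  exact (hp.dvd_iff_one_le_factorization hN).2 (by omega)

/-- A strongly real element with odd centralizer has centralizer order divisible by `p`. -/
theorem dvd_centralizer (hpG : p ∣ Nat.card G) {t t' : G} (ht : orderOf t = 2)
    (htt' : IsConj t t')
    (hct : ¬ p ∣ Nat.card (Subgroup.centralizer ({t} : Set G)))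
    (hodd : Odd (Nat.card (Subgroup.centralizer ({t * t'} : Set G))))
    (hnd : ∀ χ : IrrCharacter G,
      (charDegree (χ : G → ℂ)).factorization p ≠ (Nat.card G).factorization p) :
    p ∣ Nat.card (Subgroup.centralizer ({t * t'} : Set G)) := by
  classical
  set x := t * t' with hx
  set C := Subgroup.centralizer ({x} : Set G) with hCdef
  let X := {y : G // IsConj t y ∧ IsConj t (y⁻¹ * x)}
  have hX : H24.classMult t t x = Nat.card X := Nat.card_congr
    { toFun := fun ab => ⟨ab.1.1, ab.2.1, by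
        rw [show ab.1.1⁻¹ * x = ab.1.2 from inv_mul_eq_iff_eq_mul.2 ab.2.2.2.symm]
        exact ab.2.2.1⟩
      invFun := fun y => ⟨(y.1, y.1⁻¹ * x), y.2.1, y.2.2, mul_inv_cancel_left _ _⟩
      left_inv := fun ab => by
        apply Subtype.ext
        exact Prod.ext rfl (inv_mul_eq_iff_eq_mul.2 ab.2.2.2.symm)
      right_inv := fun y => rfl }
  letI act : MulAction C X :=
    { smul := fun c y => ⟨(c : G) * y.1 * (c : G)⁻¹, y.2.1.trans (isConj_iff.2 ⟨c, rfl⟩), by
        have hc : Commute (c : G) x := Subgroup.mem_centralizer_singleton_iff.1 c.2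
        have : ((c : G) * y.1 * (c : G)⁻¹)⁻¹ * x = (c : G) * (y.1⁻¹ * x) * (c : G)⁻¹ := by
          simp only [mul_inv_rev, inv_inv, mul_assoc, hc.inv_left.eq]
        rw [this]
        exact y.2.2.trans (isConj_iff.2 ⟨c, rfl⟩)⟩
      one_smul := fun y => Subtype.ext (show (1 : G) * y.1 * (1 : G)⁻¹ = y.1 by group)
      mul_smul := fun c d y => Subtype.ext (show ((c : G) * d) * y.1 * ((c : G) * d)⁻¹ =
        (c : G) * ((d : G) * y.1 * (d : G)⁻¹) * (c : G)⁻¹ by group) }
  -- every member of `X` inverts `x`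
  have hinv : ∀ y : X, y.1 * x * y.1⁻¹ = x⁻¹ := by
    intro y
    have h1 := H65.two_of_isConj ht y.2.1
    have h2 := H65.two_of_isConj ht y.2.2
    have h3 := H65.conj_prod h1 h2
    rwa [mul_inv_cancel_left] at h3
  let y₀ : X := ⟨t, IsConj.refl t, by rw [hx, inv_mul_cancel_left]; exact htt'⟩
  have horb : ∀ y : X, y ∈ MulAction.orbit C y₀ := by
    intro y
    have h1 := H65.two_of_isConj ht y.2.1
    have hm : t * y.1 ∈ C := by
      rw [hCdef, Subgroup.mem_centralizer_singleton_iff]
      have e1 := hinv y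
      have e2 : t * x⁻¹ * t⁻¹ = x := by
        have h := hinv y₀
        calc t * x⁻¹ * t⁻¹ = (t * x * t⁻¹)⁻¹ := by group
          _ = x := by rw [h, inv_inv]
      calc t * y.1 * x = t * (y.1 * x * y.1⁻¹) * t⁻¹ * (t * y.1) := by group
        _ = x * (t * y.1) := by rw [e1, e2]
    obtain ⟨d, hd, hdy⟩ := H65.conj_of_odd ht h1 (hodd.of_dvd_nat (Subgroup.orderOf_dvd_natCard C hm))
    obtain ⟨k, hk⟩ := (H65.mem_closure_pair_iff ht h1).1 hd
    have hdy' : (t * y.1) ^ k * t * ((t * y.1) ^ k)⁻¹ = y.1 ∨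
        (t * y.1) ^ (-k) * t * ((t * y.1) ^ (-k))⁻¹ = y.1 := by
      rcases hk with rfl | rfl
      · exact Or.inl hdy
      · right
        have e : t * (t * y.1) ^ k = (t * y.1) ^ (-k) * t := by
          rw [H65.zpow_mul_left ht h1, neg_neg]
        rw [e] at hdy
        simpa [mul_assoc] using hdy
    rcases hdy' with h | h
    · exact ⟨⟨_, C.zpow_mem hm k⟩, Subtype.ext h⟩
    · exact ⟨⟨_, C.zpow_mem hm (-k)⟩, Subtype.ext h⟩
  have hcard : Nat.card X ∣ Nat.card C := by
    have huniv : MulAction.orbit C y₀ = Set.univ := Set.eq_univ_of_forall horb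
    have h := MulAction.index_stabilizer C y₀
    rw [huniv, Set.ncard_univ] at h
    rw [← h]
    exact Subgroup.index_dvd_card _
  exact (hX ▸ dvd_classMult hpG t x hct hnd).trans hcard

end H19.PPFix
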