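import Cfsg.Agent.H19.PrimePowerFix.Config
import Cfsg.Agent.H19.UniqueSingular
import Cfsg.Agent.H24.Quot
import Cfsg.Agent.H19.AbelianNormal

/-!
An abelian normal subgroup of odd order inverted by every involution lies under a character of
`2`-defect zero.
-/

set_option autoImplicit false
set_option linter.unusedSectionVars false

open Cfsg

namespace H19.PPFix

universe u

variable {G : Type u} [Group G] [Fintype G]

theorem exists_two_defect_zero (P : Subgroup G) [P.Normal] [Nontrivial P]
    (hodd : Odd (Nat.card P)) (hcomm : ∀ a ∈ P, ∀ b ∈ P, a * b = b * a)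
    (hinv : ∀ s : G, orderOf s = 2 → ∀ u ∈ P, s * u * s⁻¹ = u⁻¹) :
    ∃ χ : IrrCharacter G,
      (charDegree (χ : G → ℂ)).factorization 2 = (Nat.card G).factorization 2 := by
  classical
  haveI : Fintype P := Fintype.ofFinite P
  have hab : ∀ a b : P, a * b = b * a := fun a b => Subtype.ext (hcomm a a.2 b b.2)
  obtain ⟨θ, hθ⟩ := H24.exists_irr_ne_one (G := P)
  set T := H13.inertia P (θ : P → ℂ) with hT
  have hTodd : ¬ 2 ∣ Nat.card T := by
    intro h2
    haveI : Fact (Nat.Prime 2) := ⟨Nat.prime_two⟩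
    obtain ⟨⟨s, hsT⟩, hso⟩ := exists_prime_orderOf_dvd_card' 2 h2
    rw [Subgroup.orderOf_mk] at hso
    refine hθ (Subtype.ext (funext fun n => ?_))
    have hs : ∀ m : P, (θ : P → ℂ) m⁻¹ = (θ : P → ℂ) m := by
      intro m
      have h := congrFun (H13.mem_inertia P |>.1 hsT) m
      rw [H13.twist_apply] at h
      rw [← h]
      exact congrArg _ (Subtype.ext (hinv s hso m m.2).symm)
    obtain ⟨k, hk⟩ := hodd
    have hn : n = n ^ (k + 1) * n ^ (k + 1) := by
      rw [← pow_add, show k + 1 + (k + 1) = Nat.card P + 1 by omega, pow_succ, pow_card_eq_one',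
        one_mul]
    show (θ : P → ℂ) n = 1
    rw [hn, H19.irr_mul_of_comm hab]
    conv_lhs => arg 1; rw [← hs]
    rw [← H19.irr_mul_of_comm hab, inv_mul_cancel, H19.irr_one_of_comm hab]
  obtain ⟨χ, -, hdvd⟩ := H19.UniqueSingular.exists_over P θ
  refine ⟨χ, le_antisymm ((Nat.factorization_le_iff_dvd (H24.irr_pos χ).ne' Nat.card_pos.ne').2
    (H24.charDegree_dvd_card χ) 2) ?_⟩
  have h1 : (Nat.card G).factorization 2 = T.index.factorization 2 := by
    rw [← Subgroup.card_mul_index T, Nat.factorization_mul Nat.card_pos.ne'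
      Subgroup.index_ne_zero_of_finite, Finsupp.add_apply,
      Nat.factorization_eq_zero_of_not_dvd hTodd, zero_add]
  rw [h1]
  exact (Nat.factorization_le_iff_dvd Subgroup.index_ne_zero_of_finite (H24.irr_pos χ).ne').2
    (by rw [H24.charDegree_eq_degree]; exact hdvd) 2

end H19.PPFix
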